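import Mathlib

/-!
# Packed arrays and reflected loops for coset-enumeration certificates
-/

set_option autoImplicit false

namespace Cfsg.Agent.Lib.CosetEnum

/-- A binary tree of packed leaves; the low bits of the index choose the branch. -/
inductive Arr
  | leaf (v : ℕ)
  | node (l r : Arr)

/-- Read entry `i` of an array with entries of `w` bits. -/
noncomputable def Arr.get (w : ℕ) (a : Arr) : ℕ → ℕ :=
  Arr.rec (motive := fun _ => ℕ → ℕ)
    (fun v i => Nat.land (Nat.shiftRight v (w * i)) (2 ^ w - 1))
    (fun _ _ gl gr i =>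
      Bool.rec (gr (Nat.shiftRight i 1)) (gl (Nat.shiftRight i 1)) (Nat.beq (Nat.land i 1) 0)) a

/-- Bits `o, …, o + w - 1`. -/
def field (v o w : ℕ) : ℕ := Nat.land (Nat.shiftRight v o) (2 ^ w - 1)

/-- Halving loop with fuel. -/
noncomputable def allHalf (f : ℕ → Bool) (fuel : ℕ) : ℕ → ℕ → Bool :=
  Nat.rec (fun _ len => Nat.beq len 0)
    (fun _ ih lo len => Bool.rec
      (ih lo (Nat.div len 2) && ih (lo + Nat.div len 2) (len - Nat.div len 2))
      (Bool.rec true (f lo) (Nat.beq len 1))
      (Nat.ble len 1)) fuel

/-- Check all `i` with `lo ≤ i < lo + len`. -/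
noncomputable def allUpTo (f : ℕ → Bool) (lo len : ℕ) : Bool := allHalf f 24 lo len

theorem of_allUpTo {f : ℕ → Bool} {lo len : ℕ} (h : allUpTo f lo len = true) :
    ∀ i, lo ≤ i → i < lo + len → f i = true := by
  unfold allUpTo at h
  generalize (24 : ℕ) = n at h
  induction n generalizing lo len with
  | zero =>
    intro i h1 h2
    have : len = 0 := Nat.eq_of_beq_eq_true h
    omega
  | succ n ih =>
    intro i h1 h2
    change Bool.rec _ _ (Nat.ble len 1) = true at h
    cases hle : Nat.ble len 1
    · simp only [hle, Bool.and_eq_true] at h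
      by_cases hi : i < lo + Nat.div len 2
      · exact ih h.1 i h1 hi
      · exact ih h.2 i (by omega) (by omega)
    · simp only [hle] at h
      have hle' := Nat.ble_eq.mp hle
      have h01 : len = 1 := by omega
      subst h01
      have : i = lo := by omega
      subst this
      exact h

/-- Consecutive checked blocks give a checked range. -/
theorem allUpTo_append {f : ℕ → Bool} {n len : ℕ} (h1 : ∀ i < n, f i = true)
    (h2 : allUpTo f n len = true) : ∀ i < n + len, f i = true := fun i hi => by
  by_cases h : i < n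
  · exact h1 i h
  · exact of_allUpTo h2 i (by omega) hi

/-- Reflected `List.all`. -/
noncomputable def allList {α : Type} (f : α → Bool) (l : List α) : Bool :=
  List.rec true (fun a _ ih => f a && ih) l

theorem of_allList {α : Type} {f : α → Bool} : ∀ {l : List α}, allList f l = true →
    ∀ a ∈ l, f a = true
  | [], _, a, ha => absurd ha List.not_mem_nil
  | b :: l, h, a, ha => by
    change (f b && allList f l) = true at h
    rw [Bool.and_eq_true] at h
    rcases List.mem_cons.1 ha with rfl | ha
    · exact h.1
    · exact of_allList h.2 a ha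

/-- Reflected left fold. -/
noncomputable def foldNat (g : ℕ → ℕ → ℕ) (l : List ℕ) : ℕ → ℕ :=
  List.rec (fun i => i) (fun a _ ih i => ih (g i a)) l

theorem foldNat_eq (g : ℕ → ℕ → ℕ) : ∀ (l : List ℕ) (i : ℕ), foldNat g l i = l.foldl g i
  | [], _ => rfl
  | a :: l, i => foldNat_eq g l (g i a)

/-- Reflected indexing with default `0`. -/
noncomputable def nth (l : List ℕ) : ℕ → ℕ :=
  List.rec (fun _ => 0) (fun a _ ih i => Nat.rec a (fun j _ => ih j) i) l

theorem nth_eq : ∀ (l : List ℕ) (i : ℕ), nth l i = l.getD i 0
  | [], i => by simp [nth]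
  | a :: l, 0 => rfl
  | a :: l, i + 1 => nth_eq l i

end Cfsg.Agent.Lib.CosetEnum
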