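import Cfsg.Agent.Lib.CosetEnum.Arr
import Cfsg.Prelude.Def_SporCoxeter

/-!
# Certificates for coset enumerations

A certificate is a numbered list of items. An item `(x, s, y)` claims that the letter `s` carries
the coset named `x` to the one named `y`; the extra letter `A` stands for the identity. Each item is
justified by items with smaller numbers, so all are valid.
-/

set_option autoImplicit false

namespace Cfsg.Agent.Lib.CosetEnum

/-- The data of a coset enumeration. -/
structure CE where
  /-- number of letters -/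
  A : ℕ
  /-- number of cosets -/
  N : ℕ
  /-- number of items -/
  M : ℕ
  /-- number of names -/
  K : ℕ
  /-- the inverse of a letter -/
  inv : List ℕ
  /-- relators -/
  rels : List (List ℕ)
  /-- generators of the subgroup -/
  subs : List (List ℕ)
  /-- the items -/
  items : Arr
  /-- item number plus one for a name and a letter -/
  slots : Arr
  /-- definition of a name -/
  defs : Arr
  /-- the final table -/
  tab : Arr
  /-- the name of a final coset -/
  nm : Arr
  /-- the final coset of a name -/
  img : Arr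

namespace CE

variable (C : CE)

/-- The inverse letter. -/
noncomputable def inve (s : ℕ) : ℕ := nth C.inv s

/-- The inverse word. -/
noncomputable def invRev (w : List ℕ) : List ℕ :=
  List.rec (fun acc => acc) (fun a _ ih acc => ih (C.inve a :: acc)) w []

/-- The `r`th rule: relators then inverses of relators. -/
noncomputable def rule (r : ℕ) : List ℕ :=
  Bool.rec (C.invRev (C.rels.getD (r - C.rels.length) [])) (C.rels.getD r [])
    (Nat.blt r C.rels.length)

/-- The kind of an item. -/
def iKind (v : ℕ) : ℕ := field v 0 3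
/-- The letter. -/
def iS (v : ℕ) : ℕ := field v 3 5
/-- The source. -/
def iX (v : ℕ) : ℕ := field v 8 18
/-- The target. -/
def iY (v : ℕ) : ℕ := field v 26 18
/-- An argument. -/
def iA (v : ℕ) : ℕ := field v 44 18
/-- An argument. -/
def iB (v : ℕ) : ℕ := field v 62 9
/-- An argument. -/
def iC (v : ℕ) : ℕ := field v 71 9
/-- An argument. -/
def iD (v : ℕ) : ℕ := field v 80 9

/-- Item `t`. -/
noncomputable def item (t : ℕ) : ℕ := C.items.get 92 t

/-- Target plus one by an item numbered below `t`; `0` if none. -/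
noncomputable def targ (t x s : ℕ) : ℕ :=
  (fun e => Bool.rec 0
    ((fun v => Bool.rec 0 (iY v + 1) (Nat.beq (iX v) x && Nat.beq (iS v) s)) (C.item (e - 1)))
    (Nat.blt 0 e && Nat.ble e t)) (C.slots.get 22 (x * (C.A + 1) + s))

/-- Follow identity items; the result is shifted by one. -/
noncomputable def norm (t x : ℕ) : ℕ :=
  Nat.rec (fun _ => 0) (fun _ ih y =>
    (fun z => Bool.rec (ih (z - 1)) (y + 1) (Nat.beq z 0)) (C.targ t y C.A)) 400 x

/-- One step and normalisation; shifted values in and out. -/
noncomputable def stepN (t x1 s : ℕ) : ℕ :=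
  Bool.rec ((fun z => Bool.rec (C.norm t (z - 1)) 0 (Nat.beq z 0)) (C.targ t (x1 - 1) s)) 0
    (Nat.beq x1 0)

/-- A path; shifted values in and out. -/
noncomputable def walk (t : ℕ) (w : List ℕ) (x1 : ℕ) : ℕ := foldNat (C.stepN t) w x1

/-- `w` with its first `o` letters moved to the end. -/
def rot (w : List ℕ) (o : ℕ) : List ℕ := w.drop o ++ w.take o

/-- Two shifted end points are those of an identity item. -/
def endsOk (p q x y : ℕ) : Bool :=
  (Nat.beq p (x + 1) && Nat.beq q (y + 1)) || (Nat.beq p (y + 1) && Nat.beq q (x + 1))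

/-- kind 0: a definition -/
noncomputable def okDef (v : ℕ) : Bool :=
  Nat.blt (iX v) (iY v) && Nat.blt (iS v) C.A &&
    Nat.beq (C.defs.get 26 (iY v)) (iX v * 32 + iS v + 1)

/-- kind 1: a deduction from a relator -/
noncomputable def okRule (t v : ℕ) : Bool :=
  (fun w => List.rec false (fun h r _ => Nat.beq h (iS v) &&
      Nat.beq (C.walk t (C.invRev r) (iX v + 1)) (iY v + 1)) (rot w (iB v)))
    (C.rule (iA v))

/-- kind 2: transfer from a merged name -/
noncomputable def okTransfer (t v : ℕ) : Bool :=
  Nat.beq (C.norm t (iA v)) (iX v + 1) && Nat.blt (iS v) C.A &&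
    Nat.beq (C.stepN t (iA v + 1) (iS v)) (iY v + 1)

/-- kind 3: the inverse of an item -/
noncomputable def okInverse (t v : ℕ) : Bool :=
  Nat.beq (C.norm t (iA v)) (iY v + 1) && Nat.blt (iS v) C.A && Nat.blt (C.inve (iS v)) C.A &&
    Nat.beq (C.inve (C.inve (iS v))) (iS v) &&
    Nat.beq (C.stepN t (iA v + 1) (C.inve (iS v))) (iX v + 1)

/-- kind 4: a coincidence from a relator -/
noncomputable def okLoop (t v : ℕ) : Bool :=
  Nat.beq (iS v) C.A &&
  (fun w => endsOk (C.walk t (w.take (iD v)) (iA v + 1))
      (C.walk t (C.invRev (w.drop (iD v))) (iA v + 1)) (iX v) (iY v))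
    (rot (C.rule (iB v)) (iC v))

/-- kind 5: a coincidence from a transfer -/
noncomputable def okClash (t v : ℕ) : Bool :=
  Nat.beq (iS v) C.A && Nat.blt (iB v) C.A &&
  endsOk (C.stepN t (iA v + 1) (iB v)) (C.stepN t (C.norm t (iA v)) (iB v)) (iX v) (iY v)

/-- kind 6: a deduction from a subgroup generator -/
noncomputable def okSub (t v : ℕ) : Bool :=
  Nat.blt (iB v) (C.subs.getD (iA v) []).length &&
  (fun w => Nat.beq (nth w (iB v)) (iS v) &&
      Nat.beq (C.walk t (w.take (iB v)) (C.norm t 0)) (iX v + 1) &&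
      Nat.beq (C.walk t (C.invRev (w.drop (iB v + 1))) (C.norm t 0)) (iY v + 1))
    (C.subs.getD (iA v) [])

/-- kind 7: a coincidence from a subgroup generator -/
noncomputable def okSubLoop (t v : ℕ) : Bool :=
  Nat.beq (iS v) C.A &&
  (fun w => endsOk (C.walk t (w.take (iB v)) (C.norm t 0))
      (C.walk t (C.invRev (w.drop (iB v))) (C.norm t 0)) (iX v) (iY v))
    (C.subs.getD (iA v) [])

/-- The check of one item. -/
noncomputable def itemOk (t : ℕ) : Bool :=
  (fun v => (fun k =>
    Bool.rec (Bool.rec (Bool.rec (Bool.rec (Bool.rec (Bool.rec (Bool.rec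
      (C.okSubLoop t v)
      (C.okSub t v) (Nat.beq k 6))
      (C.okClash t v) (Nat.beq k 5))
      (C.okLoop t v) (Nat.beq k 4))
      (C.okInverse t v) (Nat.beq k 3))
      (C.okTransfer t v) (Nat.beq k 2))
      (C.okRule t v) (Nat.beq k 1))
      (C.okDef v) (Nat.beq k 0)) (iKind v)) (C.item t)

/-- The name of final coset `i`. -/
noncomputable def name (i : ℕ) : ℕ := C.nm.get 18 i

/-- The final table. -/
noncomputable def tb (i s : ℕ) : ℕ := C.tab.get 20 (i * C.A + s)

/-- The closing check at coset `i`. -/
noncomputable def closeOk (i : ℕ) : Bool :=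
  allUpTo (fun s => Nat.blt (C.tb i s) C.N && Nat.beq (C.tb (C.tb i s) (C.inve s)) i &&
    Nat.beq (C.stepN C.M (C.name i + 1) s) (C.name (C.tb i s) + 1)) 0 C.A

/-- The relators hold at coset `i`. -/
noncomputable def relOk (i : ℕ) : Bool :=
  allList (fun w => Nat.beq (foldNat C.tb w i) i) C.rels

/-- The final coset of name `y` agrees with its definition. -/
noncomputable def imgOk (y : ℕ) : Bool :=
  (fun d => (fun e => Bool.rec
      (Nat.blt ((d - 1) / 32) y && Nat.blt ((d - 1) % 32) C.A &&
        Nat.beq (C.tb (C.img.get 20 ((d - 1) / 32)) ((d - 1) % 32)) e)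
      (Nat.beq e 0) (Nat.beq d 0)) (C.img.get 20 y)) (C.defs.get 26 y)

/-- The name of coset `i` is sent back to `i`. -/
noncomputable def backOk (i : ℕ) : Bool :=
  Nat.beq (C.img.get 20 (C.name i)) i && Nat.blt (C.name i) C.K

/-- The constant-size checks. -/
noncomputable def baseOk : Bool :=
  Nat.blt 0 C.N && allList (fun w => Nat.beq (foldNat C.tb w 0) 0) C.subs &&
  Nat.beq (C.norm C.M 0) (C.name 0 + 1) && Nat.beq (C.defs.get 26 0) 0 &&
  allList (fun w => allList (fun s => Nat.blt s C.A) w) (C.rels ++ C.subs) &&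
  allUpTo (fun s => Nat.blt (C.inve s) C.A && Nat.beq (C.inve (C.inve s)) s) 0 C.A

end CE

end Cfsg.Agent.Lib.CosetEnum
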