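import Cfsg.Agent.Lib.CosetEnum.Sound

/-!
# The index from a closed certificate
-/

set_option autoImplicit false

namespace Cfsg.Agent.Lib.CosetEnum

namespace CE

variable (C : CE)

/-- All checks of a certificate. -/
structure Checked : Prop where
  items : ∀ t < C.M, C.itemOk t = true
  close : ∀ i < C.N, C.closeOk i = true
  rels : ∀ i < C.N, C.relOk i = true
  back : ∀ i < C.N, C.backOk i = true
  imgs : ∀ y < C.K, C.imgOk y = true
  base : C.baseOk = true
  small : Nat.ble C.A 32 = true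

variable {C}

theorem Checked.N_pos (h : C.Checked) : 0 < C.N := by
  have := h.base
  simp only [CE.baseOk, Bool.and_eq_true] at this
  exact Nat.blt_eq.mp this.1.1.1.1.1

theorem Checked.inve_spec (h : C.Checked) {s : ℕ} (hs : s < C.A) :
    C.inve s < C.A ∧ C.inve (C.inve s) = s := by
  have := h.base
  simp only [CE.baseOk, Bool.and_eq_true] at this
  have := of_allUpTo this.2 s (Nat.zero_le _) (by omega)
  simp only [Bool.and_eq_true] at this
  exact ⟨Nat.blt_eq.mp this.1, Nat.eq_of_beq_eq_true this.2⟩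

theorem Checked.letters_lt (h : C.Checked) : ∀ w ∈ C.rels ++ C.subs, ∀ s ∈ w, s < C.A := by
  intro w hw s hs
  have := h.base
  simp only [CE.baseOk, Bool.and_eq_true] at this
  exact Nat.blt_eq.mp (of_allList (of_allList this.1.2 w hw) s hs)

theorem Checked.defs_zero (h : C.Checked) : C.defs.get 26 0 = 0 := by
  have := h.base
  simp only [CE.baseOk, Bool.and_eq_true] at this
  exact Nat.eq_of_beq_eq_true this.1.1.2

theorem Checked.sub_fix (h : C.Checked) {w : List ℕ} (hw : w ∈ C.subs) : w.foldl C.tb 0 = 0 := by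
  have := h.base
  simp only [CE.baseOk, Bool.and_eq_true] at this
  rw [← foldNat_eq]
  exact Nat.eq_of_beq_eq_true (of_allList this.1.1.1.1.2 w hw)

theorem Checked.tb_spec (h : C.Checked) {i s : ℕ} (hi : i < C.N) (hs : s < C.A) :
    C.tb i s < C.N ∧ C.tb (C.tb i s) (C.inve s) = i ∧
      C.stepN C.M (C.name i + 1) s = C.name (C.tb i s) + 1 := by
  have := of_allUpTo (h.close i hi) s (Nat.zero_le _) (by omega)
  simp only [Bool.and_eq_true] at this
  exact ⟨Nat.blt_eq.mp this.1.1, Nat.eq_of_beq_eq_true this.1.2, Nat.eq_of_beq_eq_true this.2⟩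

/-- The permutation of the cosets induced by a letter. -/
noncomputable def perm (h : C.Checked) (s : ℕ) : Equiv.Perm (Fin C.N) :=
  if hs : s < C.A then
    { toFun := fun i => ⟨C.tb i s, (h.tb_spec i.2 hs).1⟩
      invFun := fun i => ⟨C.tb i (C.inve s), (h.tb_spec i.2 (h.inve_spec hs).1).1⟩
      left_inv := fun i => Fin.ext (h.tb_spec i.2 hs).2.1
      right_inv := fun i => Fin.ext (by
        have := (h.tb_spec i.2 (h.inve_spec hs).1).2.1
        rwa [(h.inve_spec hs).2] at this) }
  else 1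

theorem perm_apply (h : C.Checked) {s : ℕ} (hs : s < C.A) (i : Fin C.N) :
    (perm h s i : ℕ) = C.tb i s := by
  rw [perm, dif_pos hs]
  rfl

theorem perm_inv (h : C.Checked) {s : ℕ} (hs : s < C.A) :
    perm h (C.inve s) * perm h s = 1 := by
  ext i
  rw [Equiv.Perm.mul_apply, perm_apply h (h.inve_spec hs).1, perm_apply h hs,
    (h.tb_spec i.2 hs).2.1, Equiv.Perm.one_apply]

theorem foldl_perm (h : C.Checked) : ∀ {w : List ℕ}, (∀ s ∈ w, s < C.A) → ∀ i : Fin C.N,
    ((prodW (perm h) w i : Fin C.N) : ℕ) = w.foldl C.tb i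
  | [], _, i => rfl
  | a :: w, hw, i => by
    rw [prodW_cons, Equiv.Perm.mul_apply,
      foldl_perm h (fun s hs => hw s (List.mem_cons_of_mem _ hs)), perm_apply h (hw a (List.mem_cons_self ..))]
    rfl

theorem perm_rel (h : C.Checked) {w : List ℕ} (hw : w ∈ C.rels) : prodW (perm h) w = 1 := by
  ext i
  rw [foldl_perm h (h.letters_lt w (List.mem_append_left _ hw)), ← foldNat_eq]
  exact Nat.eq_of_beq_eq_true (of_allList (h.rels i i.2) w hw)

theorem prodW_map {G K : Type} [Group G] [Group K] (ρ : G →* K) (L : ℕ → G) : ∀ (w : List ℕ),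
    ρ (prodW L w) = prodW (fun s => ρ (L s)) w
  | [] => map_one ρ
  | a :: w => by rw [prodW_cons, map_mul, prodW_map ρ L w, prodW_cons]

theorem prodW_congr {G : Type} [Group G] {L L' : ℕ → G} : ∀ {w : List ℕ},
    (∀ s ∈ w, L s = L' s) → prodW L w = prodW L' w
  | [], _ => rfl
  | a :: w, h => by
    rw [prodW_cons, prodW_cons, h a (List.mem_cons_self ..),
      prodW_congr fun s hs => h s (List.mem_cons_of_mem _ hs)]

variable {G : Type} [Group G]

/-- **The cosets are the points of the final table.** -/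
theorem Interp.coset_equiv (I : C.Interp G) (h : C.Checked)
    (hgen : Subgroup.closure {x | ∃ s < C.A, I.L s = x} = ⊤)
    (hH : I.H = Subgroup.closure {x | ∃ w ∈ C.subs, prodW I.L w = x})
    (ρ : G →* Equiv.Perm (Fin C.N)) (hρ : ∀ s < C.A, ρ (I.L s) = perm h s) :
    I.H.index = C.N ∧ ∃ e : Fin C.N ≃ G ⧸ I.H, e ⟨0, h.N_pos⟩ = I.base ∧
      ∀ (g : G) (i : Fin C.N), e (ρ g i) = g • e i := by
  have hA : ∀ s < C.A, C.inve s < C.A := fun s hs => (h.inve_spec hs).1
  have hval := I.all_valid hA (Nat.ble_eq.mp h.small) h.defs_zero h.items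
  set e : Fin C.N → G ⧸ I.H := fun i => I.f (C.name i) with he
  have heq : ∀ (g : G) (i : Fin C.N), e (ρ g i) = g • e i := by
    suffices hS : ∀ g ∈ Subgroup.closure {x | ∃ s < C.A, I.L s = x}, ∀ i, e (ρ g i) = g • e i by
      exact fun g => hS g (hgen ▸ Subgroup.mem_top g)
    intro g hg
    induction hg using Subgroup.closure_induction with
    | mem x hx =>
      obtain ⟨s, hs, rfl⟩ := hx
      intro i
      obtain ⟨-, -, hst⟩ := h.tb_spec i.2 hs
      have h1 := (I.stepN_sound hval (x1 := C.name i + 1) (s := s) (by omega)).2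
      rw [hst, Nat.add_sub_cancel, Nat.add_sub_cancel] at h1
      rw [hρ s hs]
      show I.f (C.name (perm h s i : ℕ)) = _
      rw [perm_apply h hs, ← h1]
    | one => intro i; simp
    | mul x y _ _ hx hy => intro i; rw [map_mul, Equiv.Perm.mul_apply, hx, hy, mul_smul]
    | inv x _ hx =>
      intro i
      rw [eq_inv_smul_iff, ← hx, map_inv, Equiv.Perm.inv_def, Equiv.apply_symm_apply]
  have he0 : e ⟨0, h.N_pos⟩ = I.base := by
    have hb := h.base
    simp only [CE.baseOk, Bool.and_eq_true] at hb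
    have hn := Nat.eq_of_beq_eq_true hb.1.1.1.2
    have h2 := I.norm_sound hval (x := 0) (by omega)
    rw [hn, Nat.add_sub_cancel, I.f_zero h.defs_zero] at h2
    exact h2.symm
  have hfix : ∀ g ∈ I.H, ρ g ⟨0, h.N_pos⟩ = ⟨0, h.N_pos⟩ := by
    have hle : I.H ≤ (MulAction.stabilizer (Equiv.Perm (Fin C.N)) (⟨0, h.N_pos⟩ : Fin C.N)).comap ρ := by
      rw [hH, Subgroup.closure_le]
      rintro _ ⟨w, hw, rfl⟩
      show ρ (prodW I.L w) ⟨0, h.N_pos⟩ = ⟨0, h.N_pos⟩
      have hlt := h.letters_lt w (List.mem_append_right _ hw)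
      rw [prodW_map, prodW_congr fun s hs => hρ s (hlt s hs)]
      exact Fin.ext ((foldl_perm h hlt _).trans (h.sub_fix hw))
    exact fun g hg => hle hg
  have himg : ∀ y, y < C.K → ∃ g : G, I.f y = g • I.base ∧
      ((ρ g ⟨0, h.N_pos⟩ : Fin C.N) : ℕ) = C.img.get 20 y := by
    intro y
    induction y using Nat.strong_induction_on with
    | _ y ih =>
      intro hy
      have hi := h.imgs y hy
      unfold CE.imgOk at hi
      cases hd : Nat.beq (C.defs.get 26 y) 0
      · simp only [hd, Bool.and_eq_true, Nat.blt_eq] at hi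
        obtain ⟨⟨hxy, hs⟩, ht⟩ := hi
        obtain ⟨g, hg, hgi⟩ := ih _ hxy (by omega)
        have hne : C.defs.get 26 y ≠ 0 := fun e0 => by simp [e0] at hd
        refine ⟨I.L ((C.defs.get 26 y - 1) % 32) * g, ?_, ?_⟩
        · rw [Interp.f, dif_pos ⟨hne, hxy⟩, hg, mul_smul]
        · rw [map_mul, Equiv.Perm.mul_apply, hρ _ hs, perm_apply h hs, hgi, Nat.eq_of_beq_eq_true ht]
      · simp only [hd] at hi
        have h0 := Nat.eq_of_beq_eq_true hd
        refine ⟨1, ?_, ?_⟩
        · rw [one_smul, Interp.f, dif_neg fun hh => hh.1 h0]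
        · rw [map_one, Equiv.Perm.one_apply, Nat.eq_of_beq_eq_true hi]
  have hinj : Function.Injective e := by
    intro i j hij
    have hb : ∀ k : Fin C.N, ∃ g : G, e k = g • I.base ∧ ρ g ⟨0, h.N_pos⟩ = k := by
      intro k
      have hk := h.back k k.2
      simp only [CE.backOk, Bool.and_eq_true] at hk
      obtain ⟨g, h1, h2⟩ := himg _ (Nat.blt_eq.mp hk.2)
      exact ⟨g, h1, Fin.ext (h2.trans (Nat.eq_of_beq_eq_true hk.1))⟩
    obtain ⟨g, hg, hgi⟩ := hb i
    obtain ⟨k, hk, hkj⟩ := hb j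
    rw [hg, hk] at hij
    have hmem : k⁻¹ * g ∈ I.H := by
      have : QuotientGroup.mk (s := I.H) (g * 1) = QuotientGroup.mk (k * 1) := hij
      rw [mul_one, mul_one] at this
      exact QuotientGroup.eq.1 this.symm
    have := hfix _ hmem
    rw [map_mul, Equiv.Perm.mul_apply, hgi, map_inv, Equiv.Perm.inv_def, Equiv.symm_apply_eq,
      hkj] at this
    exact this
  have hsurj : Function.Surjective e := by
    intro q
    obtain ⟨g, rfl⟩ := QuotientGroup.mk_surjective q
    refine ⟨ρ g ⟨0, h.N_pos⟩, ?_⟩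
    rw [heq, he0]
    show QuotientGroup.mk (g * 1) = _
    rw [mul_one]
  refine ⟨?_, Equiv.ofBijective e ⟨hinj, hsurj⟩, he0, heq⟩
  rw [Subgroup.index, ← Nat.card_eq_of_bijective e ⟨hinj, hsurj⟩, Nat.card_fin]

end CE

end Cfsg.Agent.Lib.CosetEnum
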