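import Cfsg.Agent.Lib.CosetEnum.Pres

/-!
# Orbits of the subgroup on its cosets
-/

set_option autoImplicit false

namespace Cfsg.Agent.Lib.CosetEnum

open Cfsg.Spor

namespace CE

variable (C : CE)

/-- The label of coset `i`. -/
noncomputable def labelAt (lab : Arr) (i : ℕ) : ℕ := lab.get 8 i

/-- The depth of coset `i`. -/
noncomputable def rankAt (par : Arr) (i : ℕ) : ℕ := field (par.get 40 i) 0 12

/-- The orbit check at coset `i`. -/
noncomputable def orbOk (lab par : Arr) (roots : List ℕ) (i : ℕ) : Bool :=
  allList (fun w => Nat.beq (labelAt lab (foldNat C.tb w i)) (labelAt lab i)) C.subs &&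
  (fun p => Bool.rec
    (Nat.blt (field p 16 20) C.N && Nat.blt (field p 12 4) C.subs.length &&
      Nat.beq (foldNat C.tb (C.subs.getD (field p 12 4) []) (field p 16 20)) i &&
      Nat.blt (rankAt par (field p 16 20)) (rankAt par i))
    (Nat.beq i (nth roots (labelAt lab i))) (Nat.beq p 0)) (par.get 40 i)

/-- Halving count with fuel; the flag is off when the fuel runs out. -/
noncomputable def countHalf (lab : Arr) (c : ℕ) (fuel : ℕ) : ℕ → ℕ → ℕ :=
  Nat.rec (fun lo len => Bool.rec 0 (Bool.rec 0 1 (Nat.beq (labelAt lab lo) c)) (Nat.beq len 1))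
    (fun _ ih lo len => Bool.rec
      (ih lo (Nat.div len 2) + ih (lo + Nat.div len 2) (len - Nat.div len 2))
      (Bool.rec 0 (Bool.rec 0 1 (Nat.beq (labelAt lab lo) c)) (Nat.beq len 1))
      (Nat.ble len 1)) fuel

/-- The number of cosets with a label. -/
noncomputable def countLab (lab : Arr) (c : ℕ) : ℕ := countHalf lab c 24 0 C.N

theorem countHalf_eq (lab : Arr) (c : ℕ) : ∀ (fuel lo len : ℕ), len ≤ 2 ^ fuel →
    countHalf lab c fuel lo len =
      ((Finset.Ico lo (lo + len)).filter fun i => labelAt lab i = c).card := by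
  intro fuel
  induction fuel with
  | zero =>
    intro lo len h
    show (Bool.rec (motive := fun _ => ℕ) _ _ (Nat.beq len 1)) = _
    cases h1 : Nat.beq len 1
    · have : len = 0 := by
        by_contra hc
        rw [pow_zero] at h
        rw [show len = 1 by omega] at h1
        exact absurd h1 (by decide)
      subst this
      simp
    · obtain rfl := Nat.eq_of_beq_eq_true h1
      rw [Nat.Ico_succ_singleton, Finset.filter_singleton]
      cases hb : Nat.beq (labelAt lab lo) c
      · simp [show labelAt lab lo ≠ c from fun e => by simp [e] at hb]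
      · simp [Nat.eq_of_beq_eq_true hb]
  | succ n ih =>
    intro lo len h
    show (Bool.rec (motive := fun _ => ℕ) _ _ (Nat.ble len 1)) = _
    cases hle : Nat.ble len 1
    · have hl : 2 ≤ len := by
        by_contra hc
        rw [Nat.ble_eq.mpr (by omega)] at hle
        exact absurd hle (by decide)
      have hd : Nat.div len 2 = len / 2 := rfl
      rw [pow_succ] at h
      show countHalf lab c n lo (Nat.div len 2) +
        countHalf lab c n (lo + Nat.div len 2) (len - Nat.div len 2) = _
      rw [hd, ih _ _ (by omega), ih _ _ (by omega), ← Finset.card_union_of_disjoint,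
        ← Finset.filter_union, Finset.Ico_union_Ico_eq_Ico (by omega) (by omega)]
      · congr 3; omega
      · exact Finset.disjoint_filter_filter (Finset.Ico_disjoint_Ico_consecutive _ _ _)
    · have hl := Nat.ble_eq.mp hle
      cases h1 : Nat.beq len 1
      · have : len = 0 := by
          by_contra hc
          rw [show len = 1 by omega] at h1
          exact absurd h1 (by decide)
        subst this
        simp
      · obtain rfl := Nat.eq_of_beq_eq_true h1
        rw [Nat.Ico_succ_singleton, Finset.filter_singleton]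
        cases hb : Nat.beq (labelAt lab lo) c
        · simp [show labelAt lab lo ≠ c from fun e => by simp [e] at hb]
        · simp [Nat.eq_of_beq_eq_true hb]

theorem countLab_eq (hN : C.N < 2 ^ 24) (lab : Arr) (c : ℕ) :
    C.countLab lab c = ((Finset.range C.N).filter fun i => labelAt lab i = c).card := by
  rw [countLab, countHalf_eq lab c 24 0 C.N hN.le, Nat.zero_add, Finset.range_eq_Ico]

end CE

variable {α : Type} [DecidableEq α] {C : CE} {ls : List (α × Bool)} {edges : List (α × ℕ × α)}
  {extra : List (FreeGroup α)}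

/-- **The orbits of the subgroup are the label classes.** -/
theorem orbit_ncard_of_labels (subs : List (FreeGroup α)) (hS : C.subs = subs.map (wordOfFree ls))
    (h : C.Checked) (ρ : CoxPresented α edges extra →* Equiv.Perm (Fin C.N))
    (H : Subgroup (CoxPresented α edges extra))
    (hH : H = (Subgroup.closure {x | x ∈ subs}).map (PresentedGroup.mk _))
    (e : Fin C.N ≃ CoxPresented α edges extra ⧸ H)
    (heq : ∀ g i, e (ρ g i) = g • e i)
    (hρ : ∀ l : List (α × Bool), ρ (PresentedGroup.mk _ (FreeGroup.mk l)) =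
        (CE.prodW (CE.perm h) (l.map (letterIdx ls)))⁻¹)
    (lab par : Arr) (roots : List ℕ) (hok : ∀ i < C.N, C.orbOk lab par roots i = true)
    (hN : C.N < 2 ^ 24) (r : Fin C.N) (hr : nth roots (CE.labelAt lab r) = r) :
    MulAction.orbit H (e r) = e '' {i | CE.labelAt lab i = CE.labelAt lab r} ∧
      (MulAction.orbit H (e r)).ncard = C.countLab lab (CE.labelAt lab r) := by
  subst hH
  have hlt : ∀ w ∈ C.subs, ∀ s ∈ w, s < C.A :=
    fun w hw => h.letters_lt w (List.mem_append_right _ hw)
  have hinv : ∀ g ∈ (Subgroup.closure {x | x ∈ subs}).map (PresentedGroup.mk _),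
      ∀ i : Fin C.N, CE.labelAt lab (ρ g i : Fin C.N) = CE.labelAt lab i := by
    intro g hg
    rw [MonoidHom.map_closure] at hg
    induction hg using Subgroup.closure_induction with
    | mem x hx =>
      obtain ⟨w, hw, rfl⟩ := hx
      intro i
      have hm : wordOfFree ls w ∈ C.subs := hS ▸ List.mem_map_of_mem hw
      have hcall := hok (ρ (PresentedGroup.mk _ w) i) (Fin.is_lt _)
      simp only [CE.orbOk, Bool.and_eq_true] at hcall
      have h1 := Nat.eq_of_beq_eq_true (of_allList hcall.1 _ hm)
      rw [foldNat_eq, ← CE.foldl_perm h (hlt _ hm)] at h1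
      have hρw : ρ (PresentedGroup.mk _ w) = (CE.prodW (CE.perm h) (wordOfFree ls w))⁻¹ := by
        rw [wordOfFree, ← hρ, FreeGroup.mk_toWord]
      rw [hρw] at h1 ⊢
      rw [Equiv.Perm.inv_def, Equiv.apply_symm_apply] at h1
      exact h1.symm
    | one => intro i; rw [map_one, Equiv.Perm.one_apply]
    | mul x y _ _ hx hy => intro i; rw [map_mul, Equiv.Perm.mul_apply, hx, hy]
    | inv x _ hx =>
      intro i
      rw [← hx (ρ x⁻¹ i), map_inv, Equiv.Perm.inv_def, Equiv.apply_symm_apply]
  have hreach : ∀ (n : ℕ) (i : Fin C.N), CE.rankAt par i = n →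
      CE.labelAt lab i = CE.labelAt lab r →
      e i ∈ MulAction.orbit ((Subgroup.closure {x | x ∈ subs}).map
        (PresentedGroup.mk (coxRelators edges ∪ {r | r ∈ extra}))) (e r) := by
    intro n
    induction n using Nat.strong_induction_on with
    | _ n ih =>
      intro i hn hl
      have hi := hok i i.2
      simp only [CE.orbOk, Bool.and_eq_true] at hi
      cases hp : Nat.beq (par.get 40 i) 0
      · simp only [hp, Bool.and_eq_true, Nat.blt_eq] at hi
        obtain ⟨-, ⟨⟨hjN, hwl⟩, hwalk⟩, hrank⟩ := hi
        set j : Fin C.N := ⟨field (par.get 40 i) 16 20, hjN⟩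
        have hwl' : field (par.get 40 i) 12 4 < subs.length := by simpa [hS] using hwl
        set w := subs[field (par.get 40 i) 12 4]
        have hget : C.subs.getD (field (par.get 40 i) 12 4) [] = wordOfFree ls w := by
          rw [List.getD_eq_getElem _ _ hwl]
          simp [hS, w]
        have hm : wordOfFree ls w ∈ C.subs := hS ▸ List.mem_map_of_mem (List.getElem_mem hwl')
        rw [hget, foldNat_eq] at hwalk
        have hwj : CE.prodW (CE.perm h) (wordOfFree ls w) j = i :=
          Fin.ext ((CE.foldl_perm h (hlt _ hm) j).trans (Nat.eq_of_beq_eq_true hwalk))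
        have hρw : ρ (PresentedGroup.mk _ w) = (CE.prodW (CE.perm h) (wordOfFree ls w))⁻¹ := by
          rw [wordOfFree, ← hρ, FreeGroup.mk_toWord]
        have hmem : (PresentedGroup.mk _ w : CoxPresented α edges extra)⁻¹ ∈
            (Subgroup.closure {x | x ∈ subs}).map (PresentedGroup.mk _) :=
          inv_mem (Subgroup.mem_map_of_mem _ (Subgroup.subset_closure (List.getElem_mem hwl')))
        have hij : ρ (PresentedGroup.mk _ w)⁻¹ j = i := by rw [map_inv, hρw, inv_inv, hwj]
        have hjl : CE.labelAt lab j = CE.labelAt lab r := by rw [← hl, ← hij, hinv _ hmem j]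
        obtain ⟨k, hk⟩ := ih _ (hn ▸ hrank) j rfl hjl
        refine ⟨⟨_, hmem⟩ * k, ?_⟩
        show (⟨_, hmem⟩ * k : ((Subgroup.closure {x | x ∈ subs}).map (PresentedGroup.mk _) :
          Subgroup (CoxPresented α edges extra))) • e r = e i
        rw [mul_smul]
        have hk' : k • e r = e j := hk
        rw [hk', ← hij, heq]
        rfl
      · simp only [hp] at hi
        have : i = r := Fin.ext (by rw [Nat.eq_of_beq_eq_true hi.2, hl, hr])
        rw [this]
        exact MulAction.mem_orbit_self _
  have horb : MulAction.orbit ((Subgroup.closure {x | x ∈ subs}).map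
      (PresentedGroup.mk (coxRelators edges ∪ {r | r ∈ extra}))) (e r) =
      e '' {i | CE.labelAt lab i = CE.labelAt lab r} := by
    ext q
    constructor
    · rintro ⟨⟨g, hg⟩, rfl⟩
      exact ⟨ρ g r, hinv g hg r, heq g r⟩
    · rintro ⟨i, hi, rfl⟩
      exact hreach _ i rfl hi
  refine ⟨horb, ?_⟩
  rw [horb, Set.ncard_image_of_injective _ e.injective, CE.countLab_eq C hN]
  rw [← Set.ncard_coe_finset]
  rw [← Set.ncard_image_of_injective _ Fin.val_injective]
  congr 1
  ext x
  simp only [Set.mem_image, Set.mem_setOf_eq, Finset.coe_filter, Finset.mem_range]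
  exact ⟨fun ⟨i, hi, hx⟩ => hx ▸ ⟨i.2, hi⟩, fun ⟨hx, hl⟩ => ⟨⟨x, hx⟩, hl, rfl⟩⟩

end Cfsg.Agent.Lib.CosetEnum
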