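import Cfsg.Agent.Lib.CosetEnum.Close

/-!
# Certificates for Coxeter-graph presentations
-/

set_option autoImplicit false

namespace Cfsg.Agent.Lib.CosetEnum

open Cfsg.Spor

variable {α : Type} [DecidableEq α]

/-- The table letter of a signed generator. -/
def letterIdx (ls : List (α × Bool)) (p : α × Bool) : ℕ :=
  if p ∈ ls then ls.idxOf p else ls.idxOf (p.1, !p.2)

/-- The table word of an element of a free group. -/
def wordOfFree (ls : List (α × Bool)) (x : FreeGroup α) : List ℕ := x.toWord.map (letterIdx ls)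

/-- The relator words of a presentation. -/
def presWords (ls : List (α × Bool)) (edges : List (α × ℕ × α)) (extra : List (FreeGroup α)) :
    List (List ℕ) :=
  ((coxNodes edges).dedup.flatMap fun x => (coxNodes edges).dedup.map fun y =>
      (List.replicate (coxLabel edges x y) [letterIdx ls (x, true), letterIdx ls (y, true)]).flatten) ++
    extra.map (wordOfFree ls)

/-- The letter checks. -/
def presOk (C : CE) (ls : List (α × Bool)) (edges : List (α × ℕ × α)) (gens : List α) : Prop :=
  C.A = ls.length ∧ (∀ g ∈ gens, ∀ b : Bool, (g, b) ∈ ls ∨ ((g, !b) ∈ ls ∧ g ∈ coxNodes edges)) ∧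
    (∀ s : Fin ls.length, letterIdx ls ls[s.val] = s.val ∧
      C.inv.getD s.val 0 = letterIdx ls (ls[s.val].1, !ls[s.val].2)) ∧
    ∀ g ∈ gens, letterIdx ls (g, false) = C.inv.getD (letterIdx ls (g, true)) 0

instance (C : CE) (ls : List (α × Bool)) (edges : List (α × ℕ × α)) (gens : List α) :
    Decidable (presOk C ls edges gens) := by unfold presOk; infer_instance

variable (C : CE) (ls : List (α × Bool)) (edges : List (α × ℕ × α)) (extra : List (FreeGroup α))

/-- The element of a letter. -/
noncomputable def letterElt (s : ℕ) : CoxPresented α edges extra :=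
  if h : s < ls.length then (PresentedGroup.mk _ (FreeGroup.mk [ls[s]]))⁻¹ else 1

theorem mk_node_sq {g : α} (hg : g ∈ coxNodes edges) :
    PresentedGroup.mk (coxRelators edges ∪ {r | r ∈ extra}) (FreeGroup.of g) *
      PresentedGroup.mk (coxRelators edges ∪ {r | r ∈ extra}) (FreeGroup.of g) = 1 := by
  rw [← map_mul]
  refine (QuotientGroup.eq_one_iff _).2 (Subgroup.subset_normalClosure (Or.inl ⟨g, hg, g, hg, ?_⟩))
  simp [coxLabel]

theorem mk_flip {g : α} (hg : g ∈ coxNodes edges) (b : Bool) :
    PresentedGroup.mk (coxRelators edges ∪ {r | r ∈ extra}) (FreeGroup.mk [(g, !b)]) =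
      PresentedGroup.mk (coxRelators edges ∪ {r | r ∈ extra}) (FreeGroup.mk [(g, b)]) := by
  have h := eq_inv_of_mul_eq_one_left (mk_node_sq edges extra hg)
  have h2 : FreeGroup.mk [(g, false)] = (FreeGroup.of g)⁻¹ := by
    rw [FreeGroup.of, FreeGroup.inv_mk]; rfl
  cases b
  · show PresentedGroup.mk _ (FreeGroup.mk [(g, true)]) = _
    rw [h2, map_inv, ← h]
    rfl
  · show PresentedGroup.mk _ (FreeGroup.mk [(g, false)]) = _
    rw [h2, map_inv, ← h]
    rfl

variable {C ls edges extra} {gens : List α}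

theorem letterElt_idx (hp : presOk C ls edges gens) {g : α} (hg : g ∈ gens) (b : Bool) :
    letterIdx ls (g, b) < C.A ∧ letterElt ls edges extra (letterIdx ls (g, b)) =
      (PresentedGroup.mk (coxRelators edges ∪ {r | r ∈ extra}) (FreeGroup.mk [(g, b)]))⁻¹ := by
  obtain ⟨hA, hmem, -, -⟩ := hp
  by_cases hm : (g, b) ∈ ls
  · have hlt := List.idxOf_lt_length_of_mem hm
    rw [letterIdx, if_pos hm, letterElt, dif_pos hlt]
    refine ⟨hA ▸ hlt, ?_⟩
    rw [List.getElem_idxOf hlt]
  · obtain ⟨hm', hn⟩ := (hmem g hg b).resolve_left hm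
    have hlt := List.idxOf_lt_length_of_mem hm'
    rw [letterIdx, if_neg hm, letterElt, dif_pos hlt]
    refine ⟨hA ▸ hlt, ?_⟩
    rw [List.getElem_idxOf hlt, mk_flip edges extra hn]

theorem prodW_letters (hp : presOk C ls edges gens) : ∀ (l : List (α × Bool)),
    (∀ p ∈ l, p.1 ∈ gens) → CE.prodW (letterElt ls edges extra) (l.map (letterIdx ls)) =
      (PresentedGroup.mk (coxRelators edges ∪ {r | r ∈ extra}) (FreeGroup.mk l))⁻¹
  | [], _ => by
    rw [List.map_nil, CE.prodW_nil, ← FreeGroup.one_eq_mk, map_one, inv_one]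
  | (g, b) :: l, h => by
    rw [List.map_cons, CE.prodW_cons, prodW_letters hp l fun p hp' => h p (List.mem_cons_of_mem _ hp'),
      (letterElt_idx hp (h _ (List.mem_cons_self ..)) b).2, ← mul_inv_rev, ← map_mul, FreeGroup.mul_mk]
    rfl

theorem prodW_word (hp : presOk C ls edges gens) (hall : ∀ g, g ∈ gens) (x : FreeGroup α) :
    CE.prodW (letterElt ls edges extra) (wordOfFree ls x) =
      (PresentedGroup.mk (coxRelators edges ∪ {r | r ∈ extra}) x)⁻¹ := by
  rw [wordOfFree, prodW_letters hp _ fun p _ => hall p.1, FreeGroup.mk_toWord]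

theorem mk_pair_pow (x y : α) : ∀ n : ℕ,
    FreeGroup.mk (List.replicate n [(x, true), (y, true)]).flatten =
      (FreeGroup.of x * FreeGroup.of y) ^ n
  | 0 => by rw [List.replicate_zero, List.flatten_nil, pow_zero, ← FreeGroup.one_eq_mk]
  | n + 1 => by
    rw [List.replicate_succ, List.flatten_cons, ← FreeGroup.mul_mk, mk_pair_pow x y n, pow_succ']
    rfl

theorem pair_word (x y : α) (n : ℕ) :
    (List.replicate n [letterIdx ls (x, true), letterIdx ls (y, true)]).flatten =
      ((List.replicate n [(x, true), (y, true)]).flatten).map (letterIdx ls) := by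
  rw [List.map_flatten, List.map_replicate]
  rfl

/-- The interpretation of a certificate in a presented group. -/
noncomputable def presInterp (hp : presOk C ls edges gens) (hall : ∀ g, g ∈ gens)
    (hR : C.rels = presWords ls edges extra) (subs : List (FreeGroup α))
    (hS : C.subs = subs.map (wordOfFree ls)) (h : C.Checked) :
    C.Interp (CoxPresented α edges extra) where
  L := letterElt ls edges extra
  H := (Subgroup.closure {x | x ∈ subs}).map (PresentedGroup.mk _)
  one_L := fun s hs => dif_neg (by have := hp.1; omega)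
  inv_L := fun s hs => by
    have hs' : s < ls.length := hp.1 ▸ hs
    obtain ⟨h1, h2⟩ := hp.2.2.1 ⟨s, hs'⟩
    simp only at h1 h2
    have e1 := (letterElt_idx (extra := extra) hp (hall ls[s].1) ls[s].2).2
    have e2 := (letterElt_idx (extra := extra) hp (hall ls[s].1) (!ls[s].2)).2
    rw [Prod.eta, h1] at e1
    rw [CE.inve, nth_eq, h2, e2, e1, ← mul_inv_rev, ← map_mul, FreeGroup.mul_mk]
    rw [inv_eq_one, ← map_one (PresentedGroup.mk (coxRelators edges ∪ {r | r ∈ extra}))]
    congr 1
    rw [FreeGroup.one_eq_mk]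
    exact Quot.sound (by simpa using FreeGroup.Red.Step.not (L₁ := []) (L₂ := []) (x := ls[s].1) (b := ls[s].2))
  rel_L := fun w hw => by
    rw [hR, presWords, List.mem_append] at hw
    rcases hw with hw | hw
    · simp only [List.mem_flatMap, List.mem_map, List.mem_dedup] at hw
      obtain ⟨x, hx, y, hy, rfl⟩ := hw
      rw [pair_word, prodW_letters hp _ (fun p _ => hall p.1), inv_eq_one, mk_pair_pow]
      exact (QuotientGroup.eq_one_iff _).2 (Subgroup.subset_normalClosure (Or.inl ⟨x, hx, y, hy, rfl⟩))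
    · obtain ⟨r, hr, rfl⟩ := List.mem_map.1 hw
      rw [prodW_word hp hall, inv_eq_one]
      exact (QuotientGroup.eq_one_iff _).2 (Subgroup.subset_normalClosure (Or.inr hr))
  sub_L := fun w hw => by
    rw [hS] at hw
    obtain ⟨r, hr, rfl⟩ := List.mem_map.1 hw
    rw [prodW_word hp hall]
    exact inv_mem (Subgroup.mem_map_of_mem _ (Subgroup.subset_closure hr))
  lt_A := h.letters_lt

/-- The images of the generators. -/
noncomputable def genImg (ls : List (α × Bool)) (h : C.Checked) (g : α) : Equiv.Perm (Fin C.N) :=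
  (CE.perm h (letterIdx ls (g, true)))⁻¹

theorem lift_genImg (hp : presOk C ls edges gens) (hall : ∀ g, g ∈ gens) (h : C.Checked) :
    ∀ l : List (α × Bool), FreeGroup.lift (genImg ls h) (FreeGroup.mk l) =
      (CE.prodW (CE.perm h) (l.map (letterIdx ls)))⁻¹
  | [] => by rw [← FreeGroup.one_eq_mk, map_one, List.map_nil, CE.prodW_nil, inv_one]
  | (g, b) :: l => by
    rw [List.map_cons, CE.prodW_cons, mul_inv_rev, ← lift_genImg hp hall h l,
      show FreeGroup.mk ((g, b) :: l) = FreeGroup.mk [(g, b)] * FreeGroup.mk l by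
        rw [FreeGroup.mul_mk]; rfl, map_mul]
    congr 1
    cases b
    · have hlt := (letterElt_idx (extra := ([] : List (FreeGroup α))) hp (hall g) true).1
      rw [show FreeGroup.mk [(g, false)] = (FreeGroup.of g)⁻¹ by rw [FreeGroup.of, FreeGroup.inv_mk]; rfl,
        map_inv, FreeGroup.lift_apply_of, genImg, inv_inv, hp.2.2.2 g (hall g), ← nth_eq]
      exact eq_inv_of_mul_eq_one_right (CE.perm_inv h hlt)
    · exact FreeGroup.lift_apply_of

/-- **The index of a subgroup of a presented group from a certificate.** -/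
theorem pres_coset_equiv (hp : presOk C ls edges gens) (hall : ∀ g, g ∈ gens)
    (hR : C.rels = presWords ls edges extra) (subs : List (FreeGroup α))
    (hS : C.subs = subs.map (wordOfFree ls)) (h : C.Checked) :
    let H : Subgroup (CoxPresented α edges extra) :=
      (Subgroup.closure {x | x ∈ subs}).map (PresentedGroup.mk _)
    H.index = C.N ∧ ∃ (ρ : CoxPresented α edges extra →* Equiv.Perm (Fin C.N))
      (e : Fin C.N ≃ CoxPresented α edges extra ⧸ H), e ⟨0, h.N_pos⟩ = QuotientGroup.mk 1 ∧
      (∀ g i, e (ρ g i) = g • e i) ∧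
      ∀ l : List (α × Bool), ρ (PresentedGroup.mk _ (FreeGroup.mk l)) =
        (CE.prodW (CE.perm h) (l.map (letterIdx ls)))⁻¹ := by
  intro H
  have hrels : ∀ r ∈ coxRelators edges ∪ {r | r ∈ extra}, FreeGroup.lift (genImg ls h) r = 1 := by
    rintro r (⟨x, hx, y, hy, rfl⟩ | hr)
    · rw [← mk_pair_pow, lift_genImg hp hall h, ← pair_word, inv_eq_one]
      refine CE.perm_rel h ?_
      rw [hR, presWords, List.mem_append]
      refine Or.inl ?_
      simp only [List.mem_flatMap, List.mem_map, List.mem_dedup]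
      exact ⟨x, hx, y, hy, rfl⟩
    · rw [← FreeGroup.mk_toWord (x := r), lift_genImg hp hall h, inv_eq_one]
      refine CE.perm_rel h ?_
      rw [hR, presWords, List.mem_append]
      exact Or.inr (List.mem_map_of_mem hr)
  let ρ : CoxPresented α edges extra →* Equiv.Perm (Fin C.N) := PresentedGroup.toGroup hrels
  have hρmk : ∀ l : List (α × Bool), ρ (PresentedGroup.mk _ (FreeGroup.mk l)) =
      (CE.prodW (CE.perm h) (l.map (letterIdx ls)))⁻¹ := fun l => lift_genImg hp hall h l
  let I := presInterp hp hall hR subs hS h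
  have hρ : ∀ s < C.A, ρ (I.L s) = CE.perm h s := fun s hs => by
    have hs' : s < ls.length := hp.1 ▸ hs
    show ρ (letterElt ls edges extra s) = _
    rw [letterElt, dif_pos hs', map_inv, hρmk, inv_inv, List.map_cons, List.map_nil, CE.prodW_cons,
      CE.prodW_nil, one_mul, (hp.2.2.1 ⟨s, hs'⟩).1]
  have hgen : Subgroup.closure {x | ∃ s < C.A, I.L s = x} = ⊤ := by
    rw [eq_top_iff, ← PresentedGroup.closure_range_of, Subgroup.closure_le]
    rintro _ ⟨g, rfl⟩
    obtain ⟨hlt, he⟩ := letterElt_idx (extra := extra) hp (hall g) true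
    have hm : (PresentedGroup.of g : CoxPresented α edges extra)⁻¹ ∈
        Subgroup.closure {x | ∃ s < C.A, I.L s = x} := Subgroup.subset_closure ⟨_, hlt, he⟩
    simpa using inv_mem hm
  have hH : I.H = Subgroup.closure {x | ∃ w ∈ C.subs, CE.prodW I.L w = x} := by
    show (Subgroup.closure {x | x ∈ subs}).map (PresentedGroup.mk _) = _
    refine le_antisymm ?_ ?_
    · rw [MonoidHom.map_closure, Subgroup.closure_le]
      rintro _ ⟨r, hr, rfl⟩
      have hm : (PresentedGroup.mk (coxRelators edges ∪ {r | r ∈ extra}) r)⁻¹ ∈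
          Subgroup.closure {x | ∃ w ∈ C.subs, CE.prodW I.L w = x} :=
        Subgroup.subset_closure ⟨_, hS ▸ List.mem_map_of_mem hr, prodW_word hp hall r⟩
      simpa using inv_mem hm
    · rw [Subgroup.closure_le]
      rintro _ ⟨w, hw, rfl⟩
      exact I.sub_L w hw
  obtain ⟨hidx, e, he0, heq⟩ := I.coset_equiv h hgen hH ρ hρ
  exact ⟨hidx, ρ, e, he0, heq, hρmk⟩

end Cfsg.Agent.Lib.CosetEnum
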