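import Cfsg.Agent.Lib.CosetEnum.Cert

/-!
# Soundness of coset-enumeration certificates
-/

set_option autoImplicit false

namespace Cfsg.Agent.Lib.CosetEnum

namespace CE

variable {G : Type} [Group G]

/-- The product of a word whose first letter acts first. -/
def prodW (L : ℕ → G) (w : List ℕ) : G := w.foldl (fun acc s => L s * acc) 1

theorem prodW_cons (L : ℕ → G) (a : ℕ) (w : List ℕ) : prodW L (a :: w) = prodW L w * L a := by
  suffices h : ∀ (w : List ℕ) (acc : G), w.foldl (fun acc s => L s * acc) acc = prodW L w * acc by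
    show w.foldl (fun acc s => L s * acc) (L a * 1) = _
    rw [mul_one, h]
  intro w
  induction w with
  | nil => intro acc; simp [prodW]
  | cons b w ih =>
    intro acc
    show w.foldl _ (L b * acc) = (w.foldl _ (L b * 1)) * acc
    rw [ih, ih (L b * 1), mul_one, mul_assoc]

theorem prodW_nil (L : ℕ → G) : prodW L [] = 1 := rfl

theorem prodW_append (L : ℕ → G) : ∀ (u v : List ℕ), prodW L (u ++ v) = prodW L v * prodW L u
  | [], v => by simp [prodW_nil]
  | a :: u, v => by rw [List.cons_append, prodW_cons, prodW_cons, prodW_append L u v, mul_assoc]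

theorem prodW_rot (L : ℕ → G) (w : List ℕ) (o : ℕ) (h : prodW L w = 1) : prodW L (rot w o) = 1 := by
  have hw : prodW L (w.take o ++ w.drop o) = 1 := by rw [List.take_append_drop, h]
  rw [prodW_append] at hw
  rw [rot, prodW_append]
  exact mul_eq_one_comm.mp hw

variable (C : CE)

theorem invRev_nil : C.invRev [] = [] := rfl

theorem invRev_cons (a : ℕ) (w : List ℕ) : C.invRev (a :: w) = C.invRev w ++ [C.inve a] := by
  suffices h : ∀ (w : List ℕ) (acc : List ℕ),
      (List.rec (fun acc => acc) (fun a _ ih acc => ih (C.inve a :: acc)) w : List ℕ → List ℕ) acc =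
        C.invRev w ++ acc by
    exact h w [C.inve a]
  intro w
  induction w with
  | nil => intro acc; rfl
  | cons b w ih =>
    intro acc
    show (List.rec (fun acc => acc) (fun a _ ih acc => ih (C.inve a :: acc)) w :
        List ℕ → List ℕ) (C.inve b :: acc) = _
    rw [ih]
    show C.invRev w ++ (C.inve b :: acc) =
      (List.rec (fun acc => acc) (fun a _ ih acc => ih (C.inve a :: acc)) w :
        List ℕ → List ℕ) [C.inve b] ++ acc
    rw [ih]
    simp

/-- The hypotheses relating a certificate to a group and a subgroup. -/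
structure Interp (G : Type) [Group G] where
  /-- the letters -/
  L : ℕ → G
  /-- the subgroup -/
  H : Subgroup G
  one_L : ∀ s, C.A ≤ s → L s = 1
  inv_L : ∀ s, s < C.A → L (C.inve s) * L s = 1
  rel_L : ∀ w ∈ C.rels, prodW L w = 1
  sub_L : ∀ w ∈ C.subs, prodW L w ∈ H
  lt_A : ∀ w ∈ C.rels ++ C.subs, ∀ s ∈ w, s < C.A

variable {C} (I : C.Interp G)

/-- The coset of `1`. -/
def Interp.base : G ⧸ I.H := QuotientGroup.mk 1

/-- The coset with a given name. -/
noncomputable def Interp.f : ℕ → G ⧸ I.H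
  | y => if h : C.defs.get 26 y ≠ 0 ∧ (C.defs.get 26 y - 1) / 32 < y then
      I.L ((C.defs.get 26 y - 1) % 32) • Interp.f ((C.defs.get 26 y - 1) / 32)
    else I.base
  termination_by y => y
  decreasing_by exact h.2

theorem Interp.f_of_def {x s y : ℕ} (hd : C.defs.get 26 y = x * 32 + s + 1) (hs : s < 32)
    (hxy : x < y) : I.f y = I.L s • I.f x := by
  have h1 : (x * 32 + s + 1 - 1) / 32 = x := by omega
  have h2 : (x * 32 + s + 1 - 1) % 32 = s := by omega
  rw [Interp.f, dif_pos ⟨by omega, by rw [hd, h1]; exact hxy⟩, hd, h1, h2]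

theorem Interp.f_zero (h : C.defs.get 26 0 = 0) : I.f 0 = I.base := by
  rw [Interp.f, dif_neg (fun hh => hh.1 h)]

theorem Interp.prodW_invRev : ∀ {w : List ℕ}, (∀ s ∈ w, s < C.A) →
    prodW I.L (C.invRev w) = (prodW I.L w)⁻¹
  | [], _ => by simp [invRev_nil, prodW_nil]
  | a :: w, h => by
    rw [invRev_cons, prodW_append, prodW_cons, prodW_cons, prodW_nil, one_mul, mul_inv_rev,
      Interp.prodW_invRev fun s hs => h s (List.mem_cons_of_mem _ hs)]
    congr 1
    exact eq_inv_of_mul_eq_one_left (I.inv_L a (h a (List.mem_cons_self ..)))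

/-- An item is valid. -/
def Interp.Valid (t : ℕ) : Prop :=
  I.L (iS (C.item t)) • I.f (iX (C.item t)) = I.f (iY (C.item t))

theorem Interp.targ_sound {t : ℕ} (IH : ∀ u < t, I.Valid u) {x s : ℕ} (h : C.targ t x s ≠ 0) :
    I.L s • I.f x = I.f (C.targ t x s - 1) := by
  unfold CE.targ at h ⊢
  generalize C.slots.get 22 (x * (C.A + 1) + s) = e at h ⊢
  cases hb : (Nat.blt 0 e && Nat.ble e t)
  · simp [hb] at h
  simp only [hb] at h ⊢
  cases hc : (Nat.beq (iX (C.item (e - 1))) x && Nat.beq (iS (C.item (e - 1))) s)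
  · simp [hc] at h
  simp only [hc, Nat.add_sub_cancel]
  simp only [Bool.and_eq_true, Nat.blt_eq, Nat.ble_eq] at hb
  simp only [Bool.and_eq_true] at hc
  have hv := IH (e - 1) (by omega)
  unfold Interp.Valid at hv
  rwa [Nat.eq_of_beq_eq_true hc.1, Nat.eq_of_beq_eq_true hc.2] at hv

theorem Interp.norm_sound {t : ℕ} (IH : ∀ u < t, I.Valid u) {x : ℕ} (h : C.norm t x ≠ 0) :
    I.f x = I.f (C.norm t x - 1) := by
  unfold CE.norm at h ⊢
  generalize (400 : ℕ) = n at h ⊢
  induction n generalizing x with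
  | zero => simp at h
  | succ n ih =>
    simp only [] at h ⊢
    cases hz : Nat.beq (C.targ t x C.A) 0
    · simp only [hz] at h ⊢
      have h1 := I.targ_sound IH (x := x) (s := C.A) (fun e => by simp [e] at hz)
      rw [I.one_L C.A le_rfl, one_smul] at h1
      rw [h1]
      exact ih h
    · simp [hz]

theorem Interp.stepN_sound {t : ℕ} (IH : ∀ u < t, I.Valid u) {x1 s : ℕ}
    (h : C.stepN t x1 s ≠ 0) : x1 ≠ 0 ∧ I.L s • I.f (x1 - 1) = I.f (C.stepN t x1 s - 1) := by
  unfold CE.stepN at h ⊢
  cases hx : Nat.beq x1 0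
  · simp only [hx] at h ⊢
    refine ⟨fun e => by simp [e] at hx, ?_⟩
    cases hz : Nat.beq (C.targ t (x1 - 1) s) 0
    · simp only [hz] at h ⊢
      rw [I.targ_sound IH (fun e => by simp [e] at hz)]
      exact I.norm_sound IH h
    · simp [hz] at h
  · simp [hx] at h

theorem Interp.walk_sound {t : ℕ} (IH : ∀ u < t, I.Valid u) : ∀ (w : List ℕ) {x1 z : ℕ},
    C.walk t w x1 = z + 1 → x1 ≠ 0 ∧ prodW I.L w • I.f (x1 - 1) = I.f z
  | [], x1, z, h => by
    change x1 = z + 1 at h
    subst h
    simp [prodW_nil]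
  | a :: w, x1, z, h => by
    change C.walk t w (C.stepN t x1 a) = z + 1 at h
    obtain ⟨h1, h2⟩ := Interp.walk_sound IH w h
    obtain ⟨h3, h4⟩ := I.stepN_sound IH h1
    exact ⟨h3, by rw [prodW_cons, mul_smul, h4, h2]⟩

theorem Interp.walk_sound' {t : ℕ} (IH : ∀ u < t, I.Valid u) {w : List ℕ} {c z : ℕ}
    (h : C.walk t w (c + 1) = z + 1) : prodW I.L w • I.f c = I.f z := by
  simpa using (I.walk_sound IH w h).2

theorem Interp.walk_norm_zero {t : ℕ} (IH : ∀ u < t, I.Valid u) (h0 : C.defs.get 26 0 = 0)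
    {w : List ℕ} {z : ℕ} (h : C.walk t w (C.norm t 0) = z + 1) :
    prodW I.L w • I.base = I.f z := by
  obtain ⟨h1, h2⟩ := I.walk_sound IH w h
  rwa [← I.norm_sound IH h1, I.f_zero h0] at h2

theorem getD_mem_or_nil (l : List (List ℕ)) (r : ℕ) : l.getD r [] ∈ l ∨ l.getD r [] = [] := by
  by_cases h : r < l.length
  · left
    rw [List.getD_eq_getElem _ _ h]
    exact List.getElem_mem h
  · right
    rw [List.getD_eq_default _ _ (Nat.le_of_not_lt h)]

theorem Interp.rule_trivial (r : ℕ) :
    prodW I.L (C.rule r) = 1 ∧ ∀ s ∈ C.rule r, s < C.A ∨ C.rels.length ≤ r := by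
  unfold CE.rule
  cases hr : Nat.blt r C.rels.length
  · refine ⟨?_, fun s _ => Or.inr ?_⟩
    · show prodW I.L (C.invRev _) = 1
      rcases getD_mem_or_nil C.rels (r - C.rels.length) with h | h
      · rw [I.prodW_invRev fun s hs => I.lt_A _ (List.mem_append_left _ h) s hs, I.rel_L _ h, inv_one]
      · rw [h]; rfl
    · by_contra hc
      have h2 : Nat.blt r C.rels.length = true := by rw [Nat.blt_eq]; omega
      rw [h2] at hr
      exact absurd hr (by decide)
  · refine ⟨?_, fun s hs => Or.inl ?_⟩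
    · show prodW I.L _ = 1
      rcases getD_mem_or_nil C.rels r with h | h
      · exact I.rel_L _ h
      · rw [h]; rfl
    · change s ∈ C.rels.getD r [] at hs
      rcases getD_mem_or_nil C.rels r with h | h
      · exact I.lt_A _ (List.mem_append_left _ h) s hs
      · rw [h] at hs; exact absurd hs List.not_mem_nil

theorem inve_lt {C : CE} (hA : ∀ s < C.A, C.inve s < C.A) {w : List ℕ} (h : ∀ s ∈ w, s < C.A) :
    ∀ s ∈ C.invRev w, s < C.A := by
  induction w with
  | nil => intro s hs; exact absurd hs List.not_mem_nil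
  | cons a w ih =>
    intro s hs
    rw [invRev_cons, List.mem_append, List.mem_singleton] at hs
    rcases hs with hs | rfl
    · exact ih (fun x hx => h x (List.mem_cons_of_mem _ hx)) s hs
    · exact hA a (h a (List.mem_cons_self ..))

include I in
theorem Interp.rule_lt (hA : ∀ s < C.A, C.inve s < C.A) (r : ℕ) : ∀ s ∈ C.rule r, s < C.A := by
  unfold CE.rule
  cases hr : Nat.blt r C.rels.length
  · refine inve_lt hA ?_
    intro s hs
    rcases getD_mem_or_nil C.rels (r - C.rels.length) with h | h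
    · exact I.lt_A _ (List.mem_append_left _ h) s hs
    · rw [h] at hs; exact absurd hs List.not_mem_nil
  · intro s hs
    change s ∈ C.rels.getD r [] at hs
    rcases getD_mem_or_nil C.rels r with h | h
    · exact I.lt_A _ (List.mem_append_left _ h) s hs
    · rw [h] at hs; exact absurd hs List.not_mem_nil

theorem Interp.sub_spec (i : ℕ) : prodW I.L (C.subs.getD i []) ∈ I.H ∧
    ∀ s ∈ C.subs.getD i [], s < C.A := by
  rcases getD_mem_or_nil C.subs i with h | h
  · exact ⟨I.sub_L _ h, I.lt_A _ (List.mem_append_right _ h)⟩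
  · rw [h]; exact ⟨one_mem _, fun s hs => absurd hs List.not_mem_nil⟩

theorem Interp.smul_base {h : G} (hh : h ∈ I.H) : h • I.base = I.base := by
  show QuotientGroup.mk (h * 1) = QuotientGroup.mk 1
  rw [mul_one, QuotientGroup.eq, mul_one]
  exact inv_mem hh

theorem endsOk_spec {p q x y : ℕ} (h : endsOk p q x y = true) :
    (p = x + 1 ∧ q = y + 1) ∨ (p = y + 1 ∧ q = x + 1) := by
  simp only [endsOk, Bool.or_eq_true, Bool.and_eq_true] at h
  rcases h with h | h
  · exact Or.inl ⟨Nat.eq_of_beq_eq_true h.1, Nat.eq_of_beq_eq_true h.2⟩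
  · exact Or.inr ⟨Nat.eq_of_beq_eq_true h.1, Nat.eq_of_beq_eq_true h.2⟩

/-- **One checked item is valid if the earlier ones are.** -/
theorem Interp.valid_step (hA : ∀ s < C.A, C.inve s < C.A) (hA32 : C.A ≤ 32)
    (h0 : C.defs.get 26 0 = 0) {t : ℕ} (IH : ∀ u < t, I.Valid u) (h : C.itemOk t = true) :
    I.Valid t := by
  unfold Interp.Valid
  unfold CE.itemOk at h
  generalize C.item t = v at h ⊢
  have hsplit : ∀ p w : List ℕ, (∀ s ∈ p ++ w, s < C.A) → prodW I.L (p ++ w) = 1 →
      prodW I.L (C.invRev w) = prodW I.L p := by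
    intro p w hlt he
    rw [prodW_append] at he
    rw [I.prodW_invRev fun s hs => hlt s (List.mem_append_right _ hs)]
    exact inv_eq_of_mul_eq_one_right he
  simp only [] at h
  cases h0' : Nat.beq (iKind v) 0
  swap
  · -- definition
    simp only [h0'] at h
    simp only [CE.okDef, Bool.and_eq_true, Nat.blt_eq] at h
    exact (I.f_of_def (Nat.eq_of_beq_eq_true h.2) (lt_of_lt_of_le h.1.2 hA32) h.1.1).symm
  cases h1' : Nat.beq (iKind v) 1
  swap
  · -- relator
    simp only [h0', h1'] at h
    unfold CE.okRule at h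
    have hlt : ∀ s ∈ rot (C.rule (iA v)) (iB v), s < C.A := fun s hs => by
      refine I.rule_lt hA (iA v) s ?_
      simp only [rot, List.mem_append] at hs
      rcases hs with hs | hs
      · exact List.mem_of_mem_drop hs
      · exact List.mem_of_mem_take hs
    have htriv := prodW_rot I.L _ (iB v) (I.rule_trivial (iA v)).1
    cases hw : rot (C.rule (iA v)) (iB v) with
    | nil => simp [hw] at h
    | cons s r =>
      simp only [hw, Bool.and_eq_true] at h
      rw [hw] at hlt htriv
      have hp := I.walk_sound' IH (Nat.eq_of_beq_eq_true h.2)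
      rw [hsplit [s] r hlt htriv, prodW_cons, prodW_nil, one_mul, Nat.eq_of_beq_eq_true h.1] at hp
      exact hp
  cases h2' : Nat.beq (iKind v) 2
  swap
  · -- transfer
    simp only [h0', h1', h2'] at h
    simp only [CE.okTransfer, Bool.and_eq_true] at h
    have hx := I.norm_sound IH (x := iA v) (by rw [Nat.eq_of_beq_eq_true h.1.1]; omega)
    rw [Nat.eq_of_beq_eq_true h.1.1] at hx
    have hy := (I.stepN_sound IH (x1 := iA v + 1) (s := iS v)
      (by rw [Nat.eq_of_beq_eq_true h.2]; omega)).2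
    rw [Nat.eq_of_beq_eq_true h.2] at hy
    rw [Nat.add_sub_cancel] at hx hy
    rw [← hx]
    simpa using hy
  cases h3' : Nat.beq (iKind v) 3
  swap
  · -- inverse
    simp only [h0', h1', h2', h3'] at h
    simp only [CE.okInverse, Bool.and_eq_true, Nat.blt_eq] at h
    obtain ⟨⟨⟨⟨hn, hs⟩, hs'⟩, hii⟩, hst⟩ := h
    have hy := I.norm_sound IH (x := iA v) (by rw [Nat.eq_of_beq_eq_true hn]; omega)
    rw [Nat.eq_of_beq_eq_true hn] at hy
    have hx := (I.stepN_sound IH (x1 := iA v + 1) (s := C.inve (iS v))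
      (by rw [Nat.eq_of_beq_eq_true hst]; omega)).2
    rw [Nat.eq_of_beq_eq_true hst] at hx
    simp only [Nat.add_sub_cancel] at hx hy
    have hmul : I.L (iS v) * I.L (C.inve (iS v)) = 1 := by
      have := I.inv_L _ hs'
      rwa [Nat.eq_of_beq_eq_true hii] at this
    rw [← hx, ← mul_smul, hmul, one_smul, hy]
  cases h4' : Nat.beq (iKind v) 4
  swap
  · -- loop
    simp only [h0', h1', h2', h3', h4'] at h
    simp only [CE.okLoop, Bool.and_eq_true] at h
    rw [Nat.eq_of_beq_eq_true h.1, I.one_L C.A le_rfl, one_smul]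
    set w := rot (C.rule (iB v)) (iC v) with hwdef
    have hlt : ∀ s ∈ w.take (iD v) ++ w.drop (iD v), s < C.A := fun s hs => by
      rw [List.take_append_drop] at hs
      refine I.rule_lt hA (iB v) s ?_
      simp only [hwdef, rot, List.mem_append] at hs
      rcases hs with hs | hs
      · exact List.mem_of_mem_drop hs
      · exact List.mem_of_mem_take hs
    have htriv : prodW I.L (w.take (iD v) ++ w.drop (iD v)) = 1 := by
      rw [List.take_append_drop]; exact prodW_rot I.L _ _ (I.rule_trivial _).1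
    have key := hsplit _ _ hlt htriv
    rcases endsOk_spec h.2 with ⟨hp, hq⟩ | ⟨hp, hq⟩
    · rw [← I.walk_sound' IH hp, ← I.walk_sound' IH hq, key]
    · rw [← I.walk_sound' IH hq, ← I.walk_sound' IH hp, key]
  cases h5' : Nat.beq (iKind v) 5
  swap
  · -- clash
    simp only [h0', h1', h2', h3', h4', h5'] at h
    simp only [CE.okClash, Bool.and_eq_true] at h
    rw [Nat.eq_of_beq_eq_true h.1.1, I.one_L C.A le_rfl, one_smul]
    have key : ∀ a b : ℕ, C.stepN t (iA v + 1) (iB v) = a + 1 →
        C.stepN t (C.norm t (iA v)) (iB v) = b + 1 → I.f a = I.f b := by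
      intro a b ha hb
      have h1 := (I.stepN_sound IH (x1 := iA v + 1) (s := iB v) (by omega)).2
      obtain ⟨hn, h2⟩ := I.stepN_sound IH (x1 := C.norm t (iA v)) (s := iB v) (by omega)
      rw [ha, Nat.add_sub_cancel, Nat.add_sub_cancel] at h1
      rw [hb, Nat.add_sub_cancel, ← I.norm_sound IH hn] at h2
      rw [← h1, ← h2]
    rcases endsOk_spec h.2 with ⟨hp, hq⟩ | ⟨hp, hq⟩
    · exact key _ _ hp hq
    · exact (key _ _ hp hq).symm
  cases h6' : Nat.beq (iKind v) 6
  swap
  · -- subgroup deduction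
    simp only [h0', h1', h2', h3', h4', h5', h6'] at h
    simp only [CE.okSub, Bool.and_eq_true, Nat.blt_eq] at h
    obtain ⟨hlen, ⟨hs, hx⟩, hy⟩ := h
    obtain ⟨hmem, hlt⟩ := I.sub_spec (iA v)
    set w := C.subs.getD (iA v) [] with hw
    have hs' := Nat.eq_of_beq_eq_true hs
    rw [nth_eq, List.getD_eq_getElem _ _ hlen] at hs'
    have e1 := I.walk_norm_zero IH h0 (Nat.eq_of_beq_eq_true hx)
    have e2 := I.walk_norm_zero IH h0 (Nat.eq_of_beq_eq_true hy)
    have hdec : w = w.take (iB v) ++ (iS v :: w.drop (iB v + 1)) := by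
      rw [← hs', ← List.drop_eq_getElem_cons hlen, List.take_append_drop]
    rw [hdec, prodW_append, prodW_cons] at hmem
    rw [I.prodW_invRev fun s hs => hlt s (List.mem_of_mem_drop hs)] at e2
    have e3 := I.smul_base hmem
    rw [mul_smul, mul_smul, e1] at e3
    rw [← e2, eq_inv_smul_iff]
    exact e3
  · -- subgroup loop
    simp only [h0', h1', h2', h3', h4', h5', h6'] at h
    simp only [CE.okSubLoop, Bool.and_eq_true] at h
    rw [Nat.eq_of_beq_eq_true h.1, I.one_L C.A le_rfl, one_smul]
    obtain ⟨hmem, hlt⟩ := I.sub_spec (iA v)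
    set w := C.subs.getD (iA v) [] with hw
    have e3 := I.smul_base hmem
    rw [← List.take_append_drop (iB v) w, prodW_append, mul_smul] at e3
    have key : prodW I.L (w.take (iB v)) • I.base = prodW I.L (C.invRev (w.drop (iB v))) • I.base := by
      rw [I.prodW_invRev fun s hs => hlt s (List.mem_of_mem_drop hs), eq_inv_smul_iff]
      exact e3
    rcases endsOk_spec h.2 with ⟨hp, hq⟩ | ⟨hp, hq⟩
    · rw [← I.walk_norm_zero IH h0 hp, ← I.walk_norm_zero IH h0 hq, key]
    · rw [← I.walk_norm_zero IH h0 hq, ← I.walk_norm_zero IH h0 hp, key]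

/-- **All checked items are valid.** -/
theorem Interp.all_valid (hA : ∀ s < C.A, C.inve s < C.A) (hA32 : C.A ≤ 32)
    (h0 : C.defs.get 26 0 = 0) (h : ∀ t < C.M, C.itemOk t = true) : ∀ t < C.M, I.Valid t := by
  intro t
  induction t using Nat.strong_induction_on with
  | _ t ih => exact fun ht => I.valid_step hA hA32 h0 (fun u hu => ih u hu (by omega)) (h t ht)

end CE

end Cfsg.Agent.Lib.CosetEnum
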